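import Cfsg.Agent.GenE.Core

/-! Two-generation of the Chevalley groups. -/

set_option autoImplicit false
set_option linter.unusedSectionVars false
set_option linter.unusedVariables false

namespace Cfsg.Agent.GenE

open Cfsg.Lie Cfsg.Lie.ChevalleyDatum Cfsg.Agent.Chev Cfsg.Agent.Tw Equiv

variable {D : ChevalleyDatum} {C : Cert D} {F : Type*} [Field F] {G : Type*} [Group G] {S : Sys C F G}
  {M : Subgroup G}

theorem full_iff {r : ℕ} : Y S ⊤ [r] ≤ M ↔ ∀ t, xi S r t ∈ M := by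
  refine ⟨fun h t => h ⟨xi_mem_list S (by simp) t, trivial⟩, fun h => inf_le_left.trans (S.U_le.2 fun s hs t => ?_)⟩
  have : (s : ℕ) = r := by simpa using hs
  rw [← xi_val, this]; exact h t

theorem xi_mem_Y (r : ℕ) (t : F) : xi S r t ∈ Y S ⊤ [r] := ⟨xi_mem_list S (by simp) t, trivial⟩

theorem cl_one (i : Nd D) : Cl S ⊤ [D.simple i] i Set.univ := by
  refine Cl.of_inj (fun r hr => ?_) (fun _ _ => trivial) fun x hx e => ?_
  · rw [List.mem_singleton.1 hr]; exact (C.pos_iff_val (C.sp i)).1 (C.pos_sp i)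
  · have : {r : Rt D | (r : ℕ) ∈ [D.simple i]} = {C.sp i} := by
      ext r; simp [Fin.ext_iff]
    have h1 := hx.1
    rw [this] at h1
    obtain ⟨t, rfl⟩ := S.mem_U_singleton.1 h1
    rw [S.cd_x_self] at e
    rw [e, S.x_zero]

theorem xi_sp (i : Nd D) (t : F) : xi S (D.simple i) t = S.x (C.sp i) t := xi_val S (C.sp i) t

theorem xi_sp_rev (i : Nd D) (t : F) : xi S (D.nroots - 1 - D.simple i) t = S.x (C.sp i).rev t := by
  rw [← xi_val, Fin.val_rev, Cert.sp_val]; congr 1; omega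

theorem hun_one (lw : List ℕ) : ∀ k < D.rank, Y S ⊤ [D.simple k] ≤ M →
    Y S ⊤ ([D.simple k].map fun r => D.nroots - 1 - r) ≤ M → Ov S M (mvs lw (fun k => [k]) (k + 2)) := by
  intro k hk h1 h2
  refine ⟨S.n (C.sp ⟨k, hk⟩) 1, S.n_mem_of_x_mem (fun t => ?_) (fun t => ?_) 1, ?_⟩
  · rw [← xi_sp]; exact full_iff.1 h1 t
  · rw [← xi_sp_rev]; exact full_iff.1 h2 t
  · have : C.wd (Cert.toNd D (mvs lw (fun k => [k]) (k + 2))) = C.ss ⟨k, hk⟩ := by
      simp [mvs, Cert.toNd, hk, Cert.wd]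
    rw [this]; exact S.over_ns _ _

variable (D) in
/-- the targets -/
def tgs : List (List ℕ) :=
  (List.range D.rank).map (fun k => [D.simple k]) ++ (List.range D.rank).map fun k => [D.nroots - 1 - D.simple k]

theorem top_of_tgs (h : ∀ l ∈ tgs D, Y S ⊤ l ≤ M) : M = ⊤ := by
  refine S.eq_top_of_sp (fun i t => ?_) fun i t => ?_
  · rw [← xi_sp]
    exact full_iff.1 (h _ (List.mem_append_left _ (List.mem_map.2 ⟨i, List.mem_range.2 i.2, rfl⟩))) t
  · rw [← xi_sp_rev]
    exact full_iff.1 (h _ (List.mem_append_right _ (List.mem_map.2 ⟨i, List.mem_range.2 i.2, rfl⟩))) t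

variable (D) in
/-- two distinct non-opposite roots -/
def Pair (r s : ℕ) : Prop := r < D.nroots ∧ s < D.nroots ∧ s ≠ r ∧ s + r + 1 ≠ D.nroots

instance (r s : ℕ) : Decidable (Pair D r s) := by unfold Pair; infer_instance

theorem swap {r s : ℕ} (h : Pair D r s) (t u : F) : (xi S r t)⁻¹ * xi S s u * xi S r t =
    xi S s u * wd S ((D.commTerms r s).map fun c => (c.1, (c.2.1 : F) * (-t) ^ c.2.2.1 * u ^ c.2.2.2)) := by
  rw [mul_assoc, xi_swap S ⟨h.1, h.2.1, h.2.2.1, h.2.2.2, rfl⟩, inv_mul_cancel_left]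

theorem commute_xi {r s : ℕ} (h : Pair D r s) (h' : D.commTerms r s = []) (t u : F) :
    Commute (xi S r t) (xi S s u) := by
  have := swap (S := S) h t u
  rw [h', List.map_nil, wd_nil, mul_one] at this
  rw [Commute, SemiconjBy]
  conv_lhs => rw [← this]
  group

variable (D) in
/-- the addition rule -/
def AddOK (P : List (List ℕ)) (l : List ℕ) : Prop :=
  [(P.headD []).headD 0] ∈ P ∧ [(P.getLastD []).headD 0] ∈ P ∧ l = [l.headD 0] ∧
    Pair D ((P.headD []).headD 0) ((P.getLastD []).headD 0) ∧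
    (D.commTerms ((P.headD []).headD 0) ((P.getLastD []).headD 0) = [(l.headD 0, 1, 1, 1)] ∨
      D.commTerms ((P.headD []).headD 0) ((P.getLastD []).headD 0) = [(l.headD 0, -1, 1, 1)])

instance (P : List (List ℕ)) (l : List ℕ) : Decidable (AddOK D P l) := by unfold AddOK; infer_instance

theorem AddOK.sound {P : List (List ℕ)} {l : List ℕ} (h : AddOK D P l) (hP : ∀ p ∈ P, Y S ⊤ p ≤ M) : Y S ⊤ l ≤ M := by
  obtain ⟨h1, h2, h3, h4, h5⟩ := h
  rw [h3, full_iff]
  have a := full_iff.1 (hP _ h1)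
  have b := full_iff.1 (hP _ h2)
  have c : ∀ t u : F, _ := fun t u => (mul_mem_cancel_left (b u)).1
    (swap (S := S) h4 t u ▸ mul_mem (mul_mem (inv_mem (a t)) (b u)) (a t))
  intro t
  rcases h5 with e | e
  · have := c (-1) t
    rw [e] at this
    simpa [wd_cons, wd_nil] using this
  · have := c 1 t
    rw [e] at this
    simpa [wd_cons, wd_nil] using this

variable (S) in
/-- a torus element -/
def hz (c : List ℤ) (ζ : Fˣ) : G := S.hh fun i => ζ ^ c.getD i 0

variable (D) in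
/-- its weights -/
def wt (ca : ℕ → ℕ → ℤ) (c : List ℤ) (r : ℕ) : ℤ := ∑ i : Nd D, c.getD i 0 * ca i r

theorem chi_hz {ca : ℕ → ℕ → ℤ} (hc : ∀ (i : Nd D) (r : Rt D), D.cartan i r = ca i r) (c : List ℤ) (ζ : Fˣ) (r : Rt D) :
    S.chi (hz S c ζ) r = ζ ^ wt D ca c r := by
  rw [hz, Sys.chi_hh, wt]
  simp only [← zpow_mul, C.A_sp, hc]
  induction (Finset.univ : Finset (Nd D)) using Finset.cons_induction with
  | empty => simp
  | cons a s ha ih => rw [Finset.prod_cons, Finset.sum_cons, zpow_add, ih]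

theorem exists_gen (F : Type*) [Field F] [Finite F] : ∃ ζ : Fˣ, (∀ e ∈ [(1 : ℤ), -1, 2, -2], SpE Set.univ ((ζ ^ e : Fˣ) : F)) ∧
    ((∃ x : F, x ≠ 0 ∧ x ≠ 1) → ∀ e ∈ [(1 : ℤ), -1], ζ ^ e ≠ 1) := by
  have := Fintype.ofFinite F
  classical
  obtain ⟨ζ, hζ⟩ := IsCyclic.exists_generator (α := Fˣ)
  have h : orderOf ζ = Fintype.card F - 1 := by
    rw [orderOf_eq_card_of_forall_mem_zpowers hζ, Nat.card_eq_fintype_card, Fintype.card_units]
  refine ⟨ζ, fun e he => spE_of_spans ?_, ?_⟩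
  · have h1 := Pres.spans_prim h
    have h2 := Pres.spans_sq h
    simp only [List.mem_cons, List.not_mem_nil, or_false] at he
    rcases he with rfl | rfl | rfl | rfl
    · simpa using h1
    · simpa using Pres.spans_inv h1 ζ.ne_zero
    · simpa [zpow_ofNat] using h2
    · simpa [zpow_ofNat] using Pres.spans_inv h2 (pow_ne_zero _ ζ.ne_zero)
  · rintro ⟨x, h0, h1⟩ e he
    have : ζ ≠ 1 := fun e => by
      obtain ⟨k, hk⟩ := hζ (Units.mk0 x h0)
      apply h1
      simpa [e] using (congrArg Units.val hk).symm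
    simp only [List.mem_cons, List.not_mem_nil, or_false] at he
    rcases he with rfl | rfl <;> simpa

theorem x_pow_card [Finite F] (r : Rt D) (t : F) : S.x r t ^ Nat.card F = 1 := by
  have := Fintype.ofFinite F
  rw [S.x_pow, Nat.card_eq_fintype_card, FiniteField.cast_card_eq_zero, zero_mul, S.x_zero]

theorem commute_of_chi {a : G} (ha : a ∈ S.H) {r : Rt D} (h : S.chi a r = 1) (t : F) : Commute a (S.x r t) := by
  have := Sys.H_conj_x ha r t
  rw [h, Units.val_one, one_mul] at this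
  exact mul_inv_eq_iff_eq_mul.1 this

variable [Finite F] {f : ℕ → ℕ → ℕ} (hf : ∀ (i : Nd D) (r : Rt D), (C.ss i r : ℕ) = f i r)
  {ca : ℕ → ℕ → ℤ} (hc : ∀ (i : Nd D) (r : Rt D), D.cartan i r = ca i r) (hφ : Function.Injective S.φ)
include hf hc hφ

/-- one root subgroup -/
theorem gen_A (lw : List ℕ) (c : List ℤ) (i : Nd D) (u : List ℕ) (st : List Step)
    (h : (u = lw ∨ u = lw.reverse) ∧ (∀ k ∈ u, k < D.rank) ∧ wt D ca c (D.simple i) = 0 ∧
      wt D ca c (actN f u (D.simple i)) ∈ [(1 : ℤ), -1, 2, -2] ∧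
      chk D.nroots D.rank D.rank f (mvs lw fun k => [k]) (fun k => [D.simple k]) (fun P l => decide (AddOK D P l))
        (tgs D) st [[D.simple i]] [0, 1] = true) : ∃ a b : G, Subgroup.closure ({a, b} : Set G) = ⊤ := by
  obtain ⟨h1, h2, h3, h4, h5⟩ := h
  obtain ⟨ζ, hζ, -⟩ := exists_gen F
  obtain ⟨n, hn⟩ := S.exists_over (C.wd_mem_W (Cert.toNd D lw))
  have hH : hz S c ζ ∈ S.H := S.hh_mem _
  refine two_gen_top (a := S.x (C.sp i) 1 * hz S c ζ) (b := n) fun M ha hb => ?_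
  obtain ⟨a1, a2⟩ := split_mem (commute_of_chi hH (by rw [chi_hz hc, Cert.sp_val, h3, zpow_zero]) 1) (x_pow_card _ _)
    (pow_card_H hφ hH) ha
  have k2 : Ov S M lw := ⟨n, hb, hn⟩
  obtain ⟨m, hm, em⟩ : Ov S M u := by
    rcases h1 with rfl | rfl
    exacts [k2, k2.reverse]
  have k1 : Y S ⊤ [D.simple i] ≤ M := by
    refine (cl_one i).span (xi_mem_Y _ 1) (by rwa [xi_sp]) (by rw [xi_sp, S.cd_x_self]; exact one_ne_zero)
      (a := m⁻¹ * hz S c ζ * m) ?_ trivial (mul_mem (mul_mem (inv_mem hm) a2) hm) ?_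
    · simpa using S.N_conj_H (inv_mem em.mem_N) hH
    · rw [chi_conj' em hH, chi_hz hc, wd_val hf h2]
      exact hζ _ h4
  exact top_of_tgs (chk_sound hf le_top (hun_one lw) (fun P l h => AddOK.sound (of_decide_eq_true h)) h5
    (by simpa using k1) (ov_mvs k2))

/-- two root subgroups -/
theorem gen_B (hF : ∃ x : F, x ≠ 0 ∧ x ≠ 1) (lw : List ℕ) (c : List ℤ) (i j : Nd D) (u : List ℕ) (st : List Step)
    (h : (u = lw ∨ u = lw.reverse) ∧ (∀ k ∈ lw, k < D.rank) ∧ wt D ca c (D.simple j) = 0 ∧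
      wt D ca c (D.simple i) ∈ [(1 : ℤ), -1] ∧ wt D ca c (actN f lw.reverse (D.simple i)) ∈ [(1 : ℤ), -1] ∧
      wt D ca c (actN f u (D.simple j)) ∈ [(1 : ℤ), -1, 2, -2] ∧
      chk D.nroots D.rank D.rank f (mvs lw fun k => [k]) (fun k => [D.simple k]) (fun P l => decide (AddOK D P l))
        (tgs D) st [[D.simple i], [D.simple j]] [0, 1] = true) : ∃ a b : G, Subgroup.closure ({a, b} : Set G) = ⊤ := by
  obtain ⟨h1, h2, h3, h4, h5, h6, h7⟩ := h
  obtain ⟨ζ, hζ, hζ'⟩ := exists_gen F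
  obtain ⟨n, hn⟩ := S.exists_over (C.wd_mem_W (Cert.toNd D lw))
  have hH : hz S c ζ ∈ S.H := S.hh_mem _
  have h2' : ∀ k ∈ lw.reverse, k < D.rank := fun k hk => h2 k (List.mem_reverse.1 hk)
  refine two_gen_top (a := xi S (D.simple j) 1 * hz S c ζ) (b := xi S (D.simple i) 1 * n) fun M ha hb => ?_
  obtain ⟨k1, k2, k3⟩ := two_B hφ le_top (cl_one i) (cl_one j) hH trivial (xi_mem_Y _ 1)
    (by rw [xi_sp, S.cd_x_self]; exact one_ne_zero)
    (by rw [xi_sp]; exact commute_of_chi hH (by rw [chi_hz hc, Cert.sp_val, h3, zpow_zero]) 1)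
    (by rw [xi_sp]; exact x_pow_card _ _) (xi_mem_Y _ 1) (by rw [xi_sp, S.cd_x_self]; exact one_ne_zero) hn trivial
    (r₁ := C.wd (Cert.toNd D lw.reverse) (C.sp i))
    (by rw [Cert.toNd, Cert.toNd, List.filterMap_reverse, Cert.wd_reverse]; simp)
    (by rw [chi_hz hc]; exact hζ' hF _ h4) (by rw [chi_hz hc, wd_val hf h2']; exact hζ' hF _ h5)
    (by rw [chi_hz hc]; exact hζ _ (by simp only [List.mem_cons] at h4 ⊢; tauto)) (u := u)
    (fun k => by rcases h1 with rfl | rfl; exacts [k, k.reverse]) rfl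
    (by rw [chi_hz hc, wd_val hf (by rcases h1 with rfl | rfl; exacts [h2, h2'])]; exact hζ _ h6) ha hb
  exact top_of_tgs (chk_sound hf le_top (hun_one lw) (fun P l h => AddOK.sound (of_decide_eq_true h)) h7
    (by simpa using ⟨k1, k2⟩) (ov_mvs k3))

omit hf hc hφ

variable (D) in
/-- the rule for the second root -/
def MixOK (s : ℕ) (P : List (List ℕ)) (l : List ℕ) : Prop :=
  [(P.headD []).headD 0] ∈ P ∧ l = [l.headD 0] ∧ Pair D s ((P.headD []).headD 0) ∧
    Pair D (D.nroots - 1 - s) ((P.headD []).headD 0) ∧ D.commTerms (D.nroots - 1 - s) ((P.headD []).headD 0) = [] ∧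
    ∃ e ∈ (D.commTerms s ((P.headD []).headD 0)).getLast?, e.1 = l.headD 0 ∧ (e.2.1 = 1 ∨ e.2.1 = -1) ∧
      ∀ e' ∈ (D.commTerms s ((P.headD []).headD 0)).dropLast, [e'.1] ∈ P

instance (s : ℕ) (P : List (List ℕ)) (l : List ℕ) : Decidable (MixOK D s P l) := by unfold MixOK; infer_instance

theorem wd_append' (w w' : List (ℕ × F)) : wd S (w ++ w') = wd S w * wd S w' := by simp [wd]

theorem MixOK.sound (hF : ∀ t : F, t = 0 ∨ t = 1) {s : ℕ} (hy : xi S (D.nroots - 1 - s) 1 * xi S s 1 ∈ M)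
    {P : List (List ℕ)} {l : List ℕ} (h : MixOK D s P l) (hP : ∀ p ∈ P, Y S ⊤ p ≤ M) : Y S ⊤ l ≤ M := by
  obtain ⟨h1, h2, h3, h4, h5, e, he, h6, h7, h8⟩ := h
  rw [h2, full_iff]
  have a := full_iff.1 (hP _ h1) 1
  have b := mul_mem (mul_mem (inv_mem hy) a) hy
  rw [mul_inv_rev, mul_assoc, mul_assoc, ← mul_assoc (xi S _ 1) (xi S _ 1), ← (commute_xi h4 h5 1 1).eq, mul_assoc,
    inv_mul_cancel_left, ← mul_assoc, swap h3, mul_mem_cancel_left a, ← List.dropLast_append_getLast? e he,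
    List.map_append, wd_append', mul_mem_cancel_left] at b
  · intro t
    rcases hF t with rfl | rfl
    · rw [xi_zero]; exact one_mem _
    · simp only [List.map, wd_cons, wd_nil, mul_one, one_pow, h6] at b
      convert b using 2
      refine ((hF _).resolve_left (mul_ne_zero ?_ (pow_ne_zero _ (neg_ne_zero.2 one_ne_zero)))).symm
      rcases h7 with h | h <;> simp [h]
  · refine list_prod_mem fun x hx => ?_
    simp only [List.map_map, List.mem_map] at hx
    obtain ⟨e', he', rfl⟩ := hx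
    exact full_iff.1 (hP _ (h8 e' he')) _

include hf

/-- the field with two elements -/
theorem gen_Q (S : Sys C F G) (hF : ∀ t : F, t = 0 ∨ t = 1) (lw : List ℕ) (r s : ℕ) (st : List Step)
    (h : Pair D r s ∧ D.commTerms r s = [] ∧ Pair D r (D.nroots - 1 - s) ∧ D.commTerms r (D.nroots - 1 - s) = [] ∧
      chk D.nroots D.rank D.rank f (mvs lw fun k => [k]) (fun k => [D.simple k])
        (fun P l => decide (AddOK D P l ∨ MixOK D s P l)) (tgs D) st [[r]] [0, 1] = true) :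
    ∃ a b : G, Subgroup.closure ({a, b} : Set G) = ⊤ := by
  obtain ⟨h1, h2, h3, h4, h5⟩ := h
  obtain ⟨n, hn⟩ := S.exists_over (C.wd_mem_W (Cert.toNd D lw))
  have two : (1 : F) + 1 = 0 := (hF _).resolve_right (by simp)
  have sq : ∀ r, xi S r 1 * xi S r 1 = 1 := fun r => by rw [xi_add, two, xi_zero]
  have cube : (xi S (D.nroots - 1 - s) 1 * xi S s 1) ^ 3 = 1 := by
    have hs := h1.2.1
    obtain ⟨c, hc⟩ := S.acts_n ⟨s, hs⟩ 1 ⟨s, hs⟩
    have e1 : xi S (D.nroots - 1 - s) 1 = S.x (Fin.rev ⟨s, hs⟩) 1 := by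
      rw [← xi_val, Fin.val_rev]; congr 1; simp only; omega
    have e2 := hc 1
    rw [(hF c).resolve_left c.ne_zero, one_mul, Cert.sr_apply, C.refl_self, Sys.n, inv_one, Units.val_one,
      neg_eq_of_add_eq_zero_left two, ← e1, ← xi_eq S hs] at e2
    have s1 := sq s
    have s2 := sq (D.nroots - 1 - s)
    generalize xi S (D.nroots - 1 - s) 1 = y at *
    generalize xi S s 1 = x at *
    have e3 : y * x * y = x * y * x := by
      conv_lhs => enter [1, 1]; rw [← e2]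
      group
    calc (y * x) ^ 3 = (y * x * y) * (x * y * x) := by simp only [pow_succ, pow_zero, one_mul, mul_assoc]
      _ = x * (y * (x * x) * y) * x := by rw [e3]; simp only [mul_assoc]
      _ = 1 := by rw [s1, mul_one, s2, mul_one, s1]
  refine two_gen_top (a := xi S r 1 * (xi S (D.nroots - 1 - s) 1 * xi S s 1)) (b := n) fun M ha hb => ?_
  have a1 : xi S r 1 ∈ M := by
    have := pow_mem ha 3
    rwa [((commute_xi h3 h4 1 1).mul_right (commute_xi h1 h2 1 1)).mul_pow, cube, mul_one, pow_succ, pow_two, sq,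
      one_mul] at this
  have a2 := (mul_mem_cancel_left a1).1 ha
  refine top_of_tgs (chk_sound hf le_top (hun_one lw) (fun P l h => (of_decide_eq_true h).elim AddOK.sound
    (MixOK.sound hF a2)) h5 ?_ (ov_mvs ⟨n, hb, hn⟩))
  simp only [List.mem_singleton, forall_eq, full_iff]
  intro t
  rcases hF t with rfl | rfl
  · rw [xi_zero]; exact one_mem _
  · exact a1

end Cfsg.Agent.GenE
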