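import Cfsg.Agent.Tw.OutF4
import Cfsg.Agent.Pres.Basic
import Cfsg.Agent.Chev.ReflT

/-! Two-generation of groups of exceptional type: the closure calculus. -/

set_option autoImplicit false
set_option linter.unusedSectionVars false
set_option linter.unusedVariables false

namespace Cfsg.Agent.GenE

open Cfsg.Lie Cfsg.Lie.ChevalleyDatum Cfsg.Agent.Chev Cfsg.Agent.Tw Equiv

section grp
variable {G : Type*} [Group G] {H : Subgroup G} {x h : G}

theorem split_mem {q : ℕ} (hc : Commute h x) (hx : x ^ q = 1) (hh : h ^ q = h) (e : x * h ∈ H) :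
    x ∈ H ∧ h ∈ H := by
  have := pow_mem e q
  rw [hc.symm.mul_pow, hx, hh, one_mul] at this
  exact ⟨(mul_mem_cancel_right this).1 e, this⟩

theorem comm_trick {n : G} (hc : Commute h (n * h * n⁻¹)) (h1 : h ∈ H) (h2 : x * n ∈ H) :
    h * (x * (n * h * n⁻¹ * x * (n * h * n⁻¹)⁻¹)⁻¹) * h⁻¹ *
      (x * (n * h * n⁻¹ * x * (n * h * n⁻¹)⁻¹)⁻¹)⁻¹ ∈ H := by
  have k := mul_mem (mul_mem h2 h1) (inv_mem h2)
  have := mul_mem (mul_mem (mul_mem h1 k) (inv_mem h1)) (inv_mem k)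
  rw [show x * n * h * (x * n)⁻¹ = x * (n * h * n⁻¹) * x⁻¹ by group] at this
  generalize n * h * n⁻¹ = h' at *
  convert this using 1
  have e : h' * h⁻¹ = h⁻¹ * h' := (hc.inv_left.eq).symm
  calc _ = h * x * h' * x⁻¹ * (h'⁻¹ * h⁻¹ * h') * x * h'⁻¹ * x⁻¹ := by group
    _ = h * x * h' * x⁻¹ * h⁻¹ * x * h'⁻¹ * x⁻¹ := by
      rw [mul_assoc h'⁻¹, ← e]; group
    _ = _ := by group

theorem two_gen_sub {K : Subgroup G} {a b : G} (ha : a ∈ K) (hb : b ∈ K)
    (h : ∀ M : Subgroup G, M ≤ K → a ∈ M → b ∈ M → K ≤ M) :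
    ∃ a b : K, Subgroup.closure ({a, b} : Set K) = ⊤ := by
  refine ⟨⟨a, ha⟩, ⟨b, hb⟩, eq_top_iff.2 fun g _ => ?_⟩
  obtain ⟨y, hy, e⟩ := h ((Subgroup.closure ({⟨a, ha⟩, ⟨b, hb⟩} : Set K)).map K.subtype)
    (Subgroup.map_subtype_le _) ⟨⟨a, ha⟩, Subgroup.subset_closure (by simp), rfl⟩
    ⟨⟨b, hb⟩, Subgroup.subset_closure (by simp), rfl⟩ g.2
  rwa [show y = g from Subtype.ext e] at hy

theorem two_gen_equiv {G' : Type*} [Group G'] (e : G ≃* G') (h : ∃ a b : G, Subgroup.closure ({a, b} : Set G) = ⊤) :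
    ∃ a b : G', Subgroup.closure ({a, b} : Set G') = ⊤ := by
  obtain ⟨a, b, h⟩ := h
  refine ⟨e a, e b, ?_⟩
  have := congrArg (Subgroup.map e.toMonoidHom) h
  rwa [MonoidHom.map_closure, Set.image_pair, Subgroup.map_top_of_surjective _ e.surjective] at this

theorem two_gen_top {a b : G} (h : ∀ M : Subgroup G, a ∈ M → b ∈ M → M = ⊤) :
    ∃ a b : G, Subgroup.closure ({a, b} : Set G) = ⊤ :=
  ⟨a, b, h _ (Subgroup.subset_closure (by simp)) (Subgroup.subset_closure (by simp))⟩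

end grp

section span
variable {F : Type*} [Field F]

/-- `c` spans `E` -/
def SpE (E : Set F) (c : F) : Prop :=
  ∀ B : AddSubgroup F, (∀ t ∈ B, c * t ∈ B) → ∀ a ∈ B, a ∈ E → a ≠ 0 → ∀ t ∈ E, t ∈ B

theorem pow_mul_mem {B : AddSubgroup F} {c a : F} (h : ∀ t ∈ B, c * t ∈ B) (ha : a ∈ B) (k : ℕ) : c ^ k * a ∈ B := by
  induction k with
  | zero => simpa
  | succ k ih => rw [pow_succ', mul_assoc]; exact h _ ih

theorem spE_of_spans {c : F} (h : Pres.Spans c) : SpE Set.univ c := fun B hB a ha _ h0 t _ => by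
  have : ∀ s ∈ AddSubmonoid.closure (Set.range fun i : ℕ => c ^ i), s * a ∈ B := fun s hs => by
    induction hs using AddSubmonoid.closure_induction with
    | mem _ h => obtain ⟨i, rfl⟩ := h; exact pow_mul_mem hB ha i
    | zero => simp
    | add x y _ _ h1 h2 => rw [add_mul]; exact add_mem h1 h2
  simpa [h0] using this _ (h (t * a⁻¹))

theorem spE_of_pow {E : Subfield F} {c : F} (h : ∀ t ∈ E, t ≠ 0 → ∃ k : ℕ, t = c ^ k) : SpE E c :=
  fun B hB a ha haE h0 t ht => by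
  by_cases ht0 : t = 0
  · rw [ht0]; exact zero_mem _
  obtain ⟨k, hk⟩ := h (t / a) (div_mem ht haE) (div_ne_zero ht0 h0)
  have := pow_mul_mem hB ha k
  rwa [← hk, div_mul_cancel₀ _ h0] at this

end span

variable {D : ChevalleyDatum} {C : Cert D} {F : Type*} [Field F] {G : Type*} [Group G] (S : Sys C F G)

/-- the part of `K` in a unipotent subgroup -/
def Y (K : Subgroup G) (l : List ℕ) : Subgroup G := S.U {r | (r : ℕ) ∈ l} ⊓ K

/-- `M` contains an element over a word -/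
def Ov (M : Subgroup G) (u : List ℕ) : Prop := ∃ m ∈ M, S.Over m (C.wd (Cert.toNd D u))

variable {S} {K M : Subgroup G}

theorem Ov.nil : Ov S M [] := ⟨1, one_mem _, S.over_one⟩

theorem Ov.append {u v : List ℕ} (h : Ov S M u) (h' : Ov S M v) : Ov S M (u ++ v) := by
  obtain ⟨m, hm, e⟩ := h
  obtain ⟨m', hm', e'⟩ := h'
  refine ⟨m * m', mul_mem hm hm', ?_⟩
  rw [Cert.toNd, List.filterMap_append, Cert.wd_append]
  exact e.mul e'

theorem Ov.reverse {u : List ℕ} (h : Ov S M u) : Ov S M u.reverse := by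
  obtain ⟨m, hm, e⟩ := h
  refine ⟨m⁻¹, inv_mem hm, ?_⟩
  rw [Cert.toNd, List.filterMap_reverse, Cert.wd_reverse]
  exact e.inv

theorem Ov.flatMap {mv : ℕ → List ℕ} {w : List ℕ} (h : ∀ k ∈ w, Ov S M (mv k)) : Ov S M (w.flatMap mv) := by
  induction w with
  | nil => exact Ov.nil
  | cons k w ih =>
    rw [List.flatMap_cons]
    exact (h k (by simp)).append (ih fun j hj => h j (by simp [hj]))

theorem wd_val {f : ℕ → ℕ → ℕ} (hf : ∀ (i : Nd D) (r : Rt D), (C.ss i r : ℕ) = f i r) {u : List ℕ}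
    (hu : ∀ i ∈ u, i < D.rank) (r : Rt D) : (C.wd (Cert.toNd D u) r : ℕ) = actN f u r := by
  rw [Cert.wd_table hf, Cert.toNd_val hu]

theorem Y_le_map {f : ℕ → ℕ → ℕ} (hf : ∀ (i : Nd D) (r : Rt D), (C.ss i r : ℕ) = f i r) (hM : M ≤ K) {u l src : List ℕ}
    (h : Ov S M u) (hu : ∀ i ∈ u, i < D.rank) (hl : ∀ r ∈ l, actN f u r ∈ src) (hs : Y S K src ≤ M) : Y S K l ≤ M := by
  intro x hx
  obtain ⟨m, hm, e⟩ := h
  have h1 : m * x * m⁻¹ ∈ Y S K src :=
    ⟨e.acts.conj_mem (fun r hr => by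
      show (_ : ℕ) ∈ src
      rw [wd_val hf hu]; exact hl _ hr) hx.1, K.mul_mem (K.mul_mem (hM hm) hx.2) (K.inv_mem (hM hm))⟩
  have := mul_mem (mul_mem (inv_mem hm) (hs h1)) hm
  simpa [mul_assoc] using this

/-- the moves -/
def mvs (lw : List ℕ) (cw : ℕ → List ℕ) (k : ℕ) : List ℕ := if k = 0 then lw else if k = 1 then lw.reverse else cw (k - 2)

/-- steps of a derivation -/
abbrev Step : Type := ℕ × List ℕ × List (List ℕ) × List ℕ

/-- check of one step -/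
noncomputable def stepOK (n rk m : ℕ) (f : ℕ → ℕ → ℕ) (mv cls : ℕ → List ℕ) (ru : List (List ℕ) → List ℕ → Bool)
    (s : Step) (Fs : List (List ℕ)) (us : List ℕ) : Bool :=
  if s.1 = 0 then
    Fs.contains (s.2.2.1.headD []) && s.2.2.2.all (fun k => us.contains k) &&
      (s.2.2.2.flatMap mv).all (fun i => decide (i < rk)) &&
      s.2.1.all fun r => (s.2.2.1.headD []).contains (actN f (s.2.2.2.flatMap mv) r)
  else if s.1 = 1 then s.2.2.1.all (fun l => Fs.contains l) && ru s.2.2.1 s.2.1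
  else decide (s.1 - 2 < m) && Fs.contains (cls (s.1 - 2)) && Fs.contains ((cls (s.1 - 2)).map fun r => n - 1 - r) &&
    Fs.contains s.2.1

/-- check of a derivation -/
noncomputable def chk (n rk m : ℕ) (f : ℕ → ℕ → ℕ) (mv cls : ℕ → List ℕ) (ru : List (List ℕ) → List ℕ → Bool)
    (tg : List (List ℕ)) (st : List Step) : List (List ℕ) → List ℕ → Bool :=
  List.rec (motive := fun _ => List (List ℕ) → List ℕ → Bool) (fun Fs _ => tg.all fun l => Fs.contains l)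
    (fun s _ ih Fs us => stepOK n rk m f mv cls ru s Fs us && ih (s.2.1 :: Fs) (if 2 ≤ s.1 then s.1 :: us else us)) st

theorem chk_sound {f : ℕ → ℕ → ℕ} (hf : ∀ (i : Nd D) (r : Rt D), (C.ss i r : ℕ) = f i r) (hM : M ≤ K) {m : ℕ}
    {mv cls : ℕ → List ℕ} {ru : List (List ℕ) → List ℕ → Bool}
    (hun : ∀ k < m, Y S K (cls k) ≤ M → Y S K ((cls k).map fun r => D.nroots - 1 - r) ≤ M → Ov S M (mv (k + 2)))
    (hru : ∀ P l, ru P l = true → (∀ p ∈ P, Y S K p ≤ M) → Y S K l ≤ M) {tg : List (List ℕ)} {st : List Step}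
    {Fs : List (List ℕ)} {us : List ℕ} (h : chk D.nroots D.rank m f mv cls ru tg st Fs us = true)
    (h1 : ∀ l ∈ Fs, Y S K l ≤ M) (h2 : ∀ k ∈ us, Ov S M (mv k)) : ∀ l ∈ tg, Y S K l ≤ M := by
  induction st generalizing Fs us with
  | nil =>
    intro l hl
    exact h1 l (List.contains_iff_mem.1 (List.all_eq_true.1 h l hl))
  | cons s st ih =>
    obtain ⟨a, b⟩ := Bool.and_eq_true_iff.1 h
    refine ih b ?_ ?_
    · intro l hl
      rcases List.mem_cons.1 hl with rfl | hl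
      · unfold stepOK at a
        split_ifs at a with e1 e2
        · simp only [Bool.and_eq_true, List.all_eq_true, List.contains_iff_mem, decide_eq_true_eq] at a
          exact Y_le_map hf hM (Ov.flatMap fun k hk => h2 k (a.1.1.2 k hk)) a.1.2 a.2 (h1 _ a.1.1.1)
        · simp only [Bool.and_eq_true, List.all_eq_true, List.contains_iff_mem] at a
          exact hru _ _ a.2 fun p hp => h1 p (a.1 p hp)
        · simp only [Bool.and_eq_true, List.contains_iff_mem] at a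
          exact h1 _ a.2
      · exact h1 l hl
    · intro k hk
      split_ifs at hk with e
      · rcases List.mem_cons.1 hk with rfl | hk
        · unfold stepOK at a
          rw [if_neg (by omega), if_neg (by omega)] at a
          simp only [Bool.and_eq_true, List.contains_iff_mem, decide_eq_true_eq] at a
          have := hun _ a.1.1.1 (h1 _ a.1.1.2) (h1 _ a.1.2)
          rwa [Nat.sub_add_cancel e] at this
        · exact h2 k hk
      · exact h2 k hk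

theorem ov_mvs {lw : List ℕ} {cw : ℕ → List ℕ} (h : Ov S M lw) : ∀ k ∈ [0, 1], Ov S M (mvs lw cw k) := by
  intro k hk
  simp only [List.mem_cons, List.not_mem_nil, or_false] at hk
  rcases hk with rfl | rfl
  exacts [h, h.reverse]

variable (S K) in
/-- a class of roots with leading fundamental root -/
structure Cl (l : List ℕ) (i : Nd D) (E : Set F) : Prop where
  pos : ∀ r ∈ l, D.nroots ≤ 2 * r
  mem : ∀ x ∈ Y S K l, S.cd (C.sp i) x ∈ E
  det : ∀ M : Subgroup G, (∀ x ∈ Y S K l, ∃ y ∈ Y S K l, y ∈ M ∧ S.cd (C.sp i) y = S.cd (C.sp i) x) → Y S K l ≤ M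

variable {l : List ℕ} {i : Nd D} {E : Set F}

theorem Cl.up (h : Cl S K l i E) {x : G} (hx : x ∈ Y S K l) : x ∈ S.Up :=
  S.U_le_Up (fun r hr => (C.pos_iff_val r).2 (h.pos r hr)) hx.1

theorem conj_Y {a x : G} (ha : a ∈ S.H) (haK : a ∈ K) (hx : x ∈ Y S K l) : a * x * a⁻¹ ∈ Y S K l :=
  ⟨Sys.H_conj_U ha hx.1, K.mul_mem (K.mul_mem haK hx.2) (K.inv_mem haK)⟩

theorem Cl.span (h : Cl S K l i E) {y a : G} (hy : y ∈ Y S K l) (hyM : y ∈ M) (h0 : S.cd (C.sp i) y ≠ 0)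
    (ha : a ∈ S.H) (haK : a ∈ K) (haM : a ∈ M) (hs : SpE E (S.chi a (C.sp i) : F)) : Y S K l ≤ M := by
  let B : AddSubgroup F :=
    { carrier := {s | ∃ y ∈ Y S K l, y ∈ M ∧ S.cd (C.sp i) y = s}
      zero_mem' := ⟨1, one_mem _, one_mem _, S.cd_one _⟩
      add_mem' := by
        rintro _ _ ⟨u, hu, hu', rfl⟩ ⟨v, hv, hv', rfl⟩
        exact ⟨u * v, mul_mem hu hv, mul_mem hu' hv', cd_sp_mul (h.up hu) (h.up hv) i⟩
      neg_mem' := by
        rintro _ ⟨u, hu, hu', rfl⟩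
        exact ⟨u⁻¹, inv_mem hu, inv_mem hu', cd_sp_inv (h.up hu) i⟩ }
  refine h.det M fun x hx => hs B ?_ _ ⟨y, hy, hyM, rfl⟩ (h.mem y hy) h0 _ (h.mem x hx)
  rintro _ ⟨u, hu, hu', rfl⟩
  exact ⟨a * u * a⁻¹, conj_Y ha haK hu, mul_mem (mul_mem haM hu') (inv_mem haM), cd_sp_conj ha (h.up hu) i⟩

theorem Cl.of_inj (h1 : ∀ r ∈ l, D.nroots ≤ 2 * r) (h2 : ∀ x ∈ Y S K l, S.cd (C.sp i) x ∈ E)
    (h3 : ∀ x ∈ Y S K l, S.cd (C.sp i) x = 0 → x = 1) : Cl S K l i E := by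
  refine ⟨h1, h2, fun M h x hx => ?_⟩
  obtain ⟨y, hy, hyM, e⟩ := h x hx
  have up : ∀ x ∈ Y S K l, x ∈ S.Up := fun x hx => S.U_le_Up (fun r hr => (C.pos_iff_val r).2 (h1 r hr)) hx.1
  have := h3 (x * y⁻¹) (mul_mem hx (inv_mem hy))
    (by rw [cd_sp_mul (up _ hx) (inv_mem (up _ hy)), cd_sp_inv (up _ hy), e, add_neg_cancel])
  rwa [mul_inv_eq_one.1 this]

theorem chi_conj' {m a : G} {w : Perm (Rt D)} (hm : S.Over m w) (ha : a ∈ S.H) (r : Rt D) :
    S.chi (m⁻¹ * a * m) r = S.chi a (w r) := by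
  have := Sys.chi_conj hm.inv ha (w r)
  simpa using this

theorem pow_card_H [Finite F] (hφ : Function.Injective S.φ) {a : G} (ha : a ∈ S.H) : a ^ Nat.card F = a := by
  have h1 : 0 < Nat.card F := Nat.card_pos
  conv_lhs => rw [← Nat.sub_add_cancel h1, pow_succ, S.pow_card_sub_one hφ ha, one_mul]

theorem two_B [Finite F] (hφ : Function.Injective S.φ) (hM : M ≤ K) {l' : List ℕ} {j : Nd D} {E' : Set F}
    (hi : Cl S K l i E) (hj : Cl S K l' j E') {h x y n : G} (hH : h ∈ S.H) (hK : h ∈ K) (hx : x ∈ Y S K l')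
    (hx0 : S.cd (C.sp j) x ≠ 0) (hc : Commute h x) (hxq : x ^ Nat.card F = 1) (hy : y ∈ Y S K l)
    (hy0 : S.cd (C.sp i) y ≠ 0) {lw : List ℕ} (hn : S.Over n (C.wd (Cert.toNd D lw))) (hnK : n ∈ K)
    {r₁ r₂ : Rt D} (e1 : C.wd (Cert.toNd D lw) r₁ = C.sp i) (c0 : S.chi h (C.sp i) ≠ 1) (c1 : S.chi h r₁ ≠ 1)
    (s0 : SpE E (S.chi h (C.sp i) : F)) {u : List ℕ} (hu : Ov S M lw → Ov S M u)
    (e2 : C.wd (Cert.toNd D u) (C.sp j) = r₂) (s1 : SpE E' (S.chi h r₂ : F))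
    (ha : x * h ∈ M) (hb : y * n ∈ M) : Y S K l ≤ M ∧ Y S K l' ≤ M ∧ Ov S M lw := by
  obtain ⟨a1, a2⟩ := split_mem hc hxq (pow_card_H hφ hH) ha
  have hH' : n * h * n⁻¹ ∈ S.H := S.N_conj_H hn.mem_N hH
  have hK' : n * h * n⁻¹ ∈ K := mul_mem (mul_mem hnK hK) (inv_mem hnK)
  have t := comm_trick (S.H_comm hφ hH hH') a2 hb
  have z1 := conj_Y hH' hK' hy
  have z2 := mul_mem hy (inv_mem z1)
  have z3 := conj_Y hH hK z2
  have k1 : Y S K l ≤ M := by
    refine hi.span (mul_mem z3 (inv_mem z2)) t ?_ hH hK a2 s0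
    rw [cd_sp_mul (hi.up z3) (inv_mem (hi.up z2)), cd_sp_inv (hi.up z2), cd_sp_conj hH (hi.up z2),
      cd_sp_mul (hi.up hy) (inv_mem (hi.up z1)), cd_sp_inv (hi.up z1), cd_sp_conj hH' (hi.up hy)]
    have : S.chi (n * h * n⁻¹) (C.sp i) = S.chi h r₁ := by rw [← e1, Sys.chi_conj hn hH]
    rw [this]
    have b0 : (S.chi h (C.sp i) : F) - 1 ≠ 0 := sub_ne_zero.2 fun e => c0 (Units.ext e)
    have b1 : 1 - (S.chi h r₁ : F) ≠ 0 := sub_ne_zero.2 fun e => c1 (Units.ext e.symm)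
    intro e
    exact mul_ne_zero (mul_ne_zero b0 b1) hy0 (by rw [← e]; ring)
  have k2 : Ov S M lw := ⟨n, (mul_mem_cancel_left (k1 hy)).1 hb, hn⟩
  obtain ⟨m, hm, em⟩ := hu k2
  refine ⟨k1, hj.span hx a1 hx0 (a := m⁻¹ * h * m) ?_ (mul_mem (mul_mem (inv_mem (hM hm)) hK) (hM hm))
    (mul_mem (mul_mem (inv_mem hm) a2) hm) ?_, k2⟩
  · simpa using S.N_conj_H (inv_mem em.mem_N) hH
  · rwa [chi_conj' em hH, e2]

end Cfsg.Agent.GenE
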