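import Cfsg.Agent.GenE.Chev

/-! Two-generation of the twisted groups. -/

set_option autoImplicit false
set_option linter.unusedSectionVars false
set_option linter.unusedVariables false

namespace Cfsg.Agent.GenE

open Cfsg.Lie Cfsg.Lie.ChevalleyDatum Cfsg.Agent.Chev Cfsg.Agent.Tw Equiv

section field
variable {F : Type*} [Field F] [Finite F]

theorem exists_gen' (F : Type*) [Field F] [Finite F] :
    ∃ ζ : Fˣ, orderOf ζ = Nat.card F - 1 ∧ ∀ t : F, t ≠ 0 → ∃ k : ℕ, t = (ζ : F) ^ k := by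
  obtain ⟨ζ, hζ⟩ := IsCyclic.exists_generator (α := Fˣ)
  refine ⟨ζ, by rw [orderOf_eq_card_of_forall_mem_zpowers hζ, Nat.card_units], fun t ht => ?_⟩
  obtain ⟨k, hk⟩ := (mem_powers_iff_mem_zpowers.2 (hζ (Units.mk0 t ht)))
  exact ⟨k, (congrArg Units.val hk).symm⟩

theorem ne_one_of_gen {ζ : F} (h : ∀ t : F, t ≠ 0 → ∃ k : ℕ, t = ζ ^ k) (h2 : 2 < Nat.card F) : ζ ≠ 1 := fun e => by
  obtain ⟨s, hs⟩ := exists_pow_ne F one_lt_two h2
  by_cases h0 : s = 0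
  · simp [h0] at hs
  · obtain ⟨k, rfl⟩ := h s h0
    simp [e] at hs

theorem fix_pow {φ : F ≃+* F} {q d n : ℕ} (hφ : ∀ t, φ t = t ^ q) (h : Nat.card F = q ^ d) (hn : n * (q - 1) = q ^ d - 1)
    {ζ : Fˣ} (h1 : orderOf ζ = Nat.card F - 1) (h2 : ∀ t : F, t ≠ 0 → ∃ k : ℕ, t = (ζ : F) ^ k) :
    ∀ t ∈ fixF φ, t ≠ 0 → ∃ k : ℕ, t = ((ζ : F) ^ n) ^ k := by
  intro t ht h0
  obtain ⟨k, rfl⟩ := h2 t h0
  have hq := one_lt_of_card h
  have e : φ ((ζ : F) ^ k) = (ζ : F) ^ k := ht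
  rw [hφ, ← pow_mul] at e
  have e2 : ζ ^ (k * (q - 1)) = 1 := by
    apply mul_right_cancel (b := ζ ^ k)
    rw [← pow_add, one_mul, ← Nat.mul_succ, Nat.succ_eq_add_one, Nat.sub_add_cancel hq.le]
    exact Units.ext (by simpa using e)
  have := orderOf_dvd_of_pow_eq_one e2
  rw [h1, h, ← hn] at this
  obtain ⟨c, rfl⟩ := Nat.dvd_of_mul_dvd_mul_right (by omega) this
  exact ⟨c, pow_mul _ _ _⟩

end field

variable {D : ChevalleyDatum} {C : Cert D} {F : Type*} [Field F] {G : Type*} [Group G] {S : Sys C F G}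
  {K M : Subgroup G} {T : Stb S} {f : ℕ → ℕ → ℕ}

theorem w0_eq (hf : ∀ (i : Nd D) (r : Rt D), (C.ss i r : ℕ) = f i r) {π : Perm (Nd D)} (hπ : T.π = π) (i : Nd D)
    (u : List ℕ) (h : (∀ k ∈ Cert.toNd D u, π.SameCycle i k) ∧
      sameW f D.rank D.simple (((Cert.toNd D u).map π).map Fin.val) ((Cert.toNd D u).map Fin.val) = true ∧
      actN f ((Cert.toNd D u).map Fin.val) (D.simple i) ≠ D.simple i) : C.w0 (T.orb i) = C.wd (Cert.toNd D u) := by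
  subst hπ
  refine (Stb.eq_w0_orb (C.wd_mem_WJ h.1) (by rw [Stb.cj_wd, Cert.wd_eq_of_sameW hf h.2.1]) fun e => h.2.2 ?_).symm
  rw [← C.sp_val, ← Cert.wd_table hf, e]; rfl

theorem Y_eq {i : Nd D} {l : List ℕ} (ho : {r | C.Pos r ∧ C.InJ (T.orb i) r} = {r : Rt D | (r : ℕ) ∈ l}) :
    Y S K l = T.Xp K i := by rw [Y, Stb.Xp, ho]

theorem hun_tw (hK : T.Good K) {i : Nd D} {l : List ℕ}
    (ho : {r | C.Pos r ∧ C.InJ (T.orb i) r} = {r : Rt D | (r : ℕ) ∈ l}) (hx : ∃ x ∈ Y S K l, S.cd (C.sp i) x ≠ 0)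
    {u : List ℕ} (hu : C.w0 (T.orb i) = C.wd (Cert.toNd D u)) (h1 : Y S K l ≤ M)
    (h2 : Y S K (l.map fun r => D.nroots - 1 - r) ≤ M) : Ov S M u := by
  obtain ⟨x, hx, hx0⟩ := hx
  rw [Y_eq ho] at h1 hx
  obtain ⟨m, hm, em⟩ := hK.ex_orb i
  have hv := Stb.conj_Xp hm em hx
  obtain ⟨a, ha, n, hn, en, b, hb, e⟩ := hK.cell_Xm hv (fun e => hx0 (by
    rw [show x = 1 by simpa [mul_inv_eq_one] using e, S.cd_one]))
  have hvM : m * x * m⁻¹ ∈ M := h2 ⟨S.U_mono (fun r hr => by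
    have : r.rev ∈ {r : Rt D | (r : ℕ) ∈ l} := ho ▸ ⟨(C.pos_rev_iff r).2 hr.1, C.inJ_rev.2 hr.2⟩
    refine List.mem_map.2 ⟨_, this, ?_⟩
    have := r.2
    rw [Fin.val_rev]; omega) hv.1, hv.2⟩
  rw [e, mul_mem_cancel_right (h1 hb), mul_mem_cancel_left (h1 ha)] at hvM
  exact ⟨n, hvM, hu ▸ en⟩

theorem ov_K (hK : T.Good K) {i : Nd D} {u : List ℕ} (hu : C.w0 (T.orb i) = C.wd (Cert.toNd D u)) : Ov S K u := by
  rw [Ov, ← hu]; exact hK.ex_orb i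

theorem chi_π (hK : T.Good K) {a : G} (ha : a ∈ S.H) (haK : a ∈ K) (i : Nd D) :
    S.chi a (C.sp (T.π i)) = T.fu (C.sp i) (S.chi a (C.sp i)) := by
  rw [← T.sp, ← Stb.chi_σ ha, hK.fix a haK]

theorem chi_eq_chr {a : G} (ha : a ∈ S.H) (r : Rt D) : S.chi a r = ∏ i, S.chi a (C.sp i) ^ C.rc r i :=
  (Sys.isChar_chi ha).eq_chr r

theorem wd_mem_of {W : Set (List (ℕ × F))} {tg : List (List ℕ)} (h : ∀ l ∈ tg, Y S (gen S W) l ≤ M)
    {w : List (ℕ × F)} (hw : w ∈ W) (h1 : ∃ l ∈ tg, ∀ r ∈ w.map Prod.fst, r ∈ l) : wd S w ∈ M := by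
  obtain ⟨l, hl, h2⟩ := h1
  exact h l hl ⟨wd_mem_list h2, wd_mem_gen S hw⟩

theorem gen_T [Finite F] (hf : ∀ (i : Nd D) (r : Rt D), (C.ss i r : ℕ) = f i r) (hφ : Function.Injective S.φ)
    {m : ℕ} {cls cw : ℕ → List ℕ} {lw : List ℕ} (hlw : Ov S K lw)
    (hun : ∀ M : Subgroup G, ∀ k < m, Y S K (cls k) ≤ M → Y S K ((cls k).map fun r => D.nroots - 1 - r) ≤ M →
      Ov S M (cw k))
    {tg : List (List ℕ)} (hfin : ∀ M : Subgroup G, (∀ l ∈ tg, Y S K l ≤ M) → K ≤ M)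
    {l l' : List ℕ} {i j : Nd D} {E E' : Set F} (hi : Cl S K l i E) (hl' : ∀ r ∈ l', D.nroots ≤ 2 * r)
    (hE' : ∀ x ∈ Y S K l', S.cd (C.sp j) x ∈ E') (hj : ∀ x ∈ Y S K l', S.cd (C.sp j) x = 0 → x = 1)
    (hx : ∃ x ∈ Y S K l', S.cd (C.sp j) x ≠ 0) (hy : ∃ x ∈ Y S K l, S.cd (C.sp i) x ≠ 0)
    {h : G} (hH : h ∈ S.H) (hK : h ∈ K) (r₁ r₂ : Rt D) (u : List ℕ) (st : List Step)
    (c : S.chi h (C.sp j) = 1) (c0 : S.chi h (C.sp i) ≠ 1) (c1 : S.chi h r₁ ≠ 1)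
    (s0 : SpE E (S.chi h (C.sp i) : F)) (s1 : SpE E' (S.chi h r₂ : F))
    (hc : (u = lw ∨ u = lw.reverse) ∧ (∀ k ∈ lw, k < D.rank) ∧ actN f lw r₁ = D.simple i ∧
      actN f u (D.simple j) = r₂ ∧
      chk D.nroots D.rank m f (mvs lw cw) cls (fun _ _ => false) tg st [l, l'] [0, 1] = true) :
    ∃ a b : K, Subgroup.closure ({a, b} : Set K) = ⊤ := by
  obtain ⟨h1, h2, h3, h4, h5⟩ := hc
  obtain ⟨x, hx, hx0⟩ := hx
  obtain ⟨y, hy, hy0⟩ := hy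
  obtain ⟨n, hn, en⟩ := hlw
  have cj := Cl.of_inj hl' hE' hj
  have h2' : ∀ k ∈ lw.reverse, k < D.rank := fun k hk => h2 k (List.mem_reverse.1 hk)
  refine two_gen_sub (a := x * h) (b := y * n) (K.mul_mem hx.2 hK) (K.mul_mem hy.2 hn) fun M hM ha hb => ?_
  have a1 : Commute h x := by
    have z := conj_Y hH hK hx
    have := hj _ (mul_mem z (inv_mem hx)) (by
      rw [cd_sp_mul (cj.up z) (inv_mem (cj.up hx)), cd_sp_inv (cj.up hx), cd_sp_conj hH (cj.up hx), c]; simp)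
    exact mul_inv_eq_iff_eq_mul.1 (mul_inv_eq_one.1 this)
  have a2 : x ^ Nat.card F = 1 := by
    have : ∀ k : ℕ, S.cd (C.sp j) (x ^ k) = k * S.cd (C.sp j) x := fun k => by
      induction k with
      | zero => simp [S.cd_one]
      | succ k ih => rw [pow_succ, cd_sp_mul (cj.up (pow_mem hx k)) (cj.up hx), ih]; push_cast; ring
    have _ := Fintype.ofFinite F
    exact hj _ (pow_mem hx _) (by rw [this, Nat.card_eq_fintype_card, FiniteField.cast_card_eq_zero, zero_mul])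
  obtain ⟨k1, k2, k3⟩ := two_B hφ hM hi cj hH hK hx hx0 a1 a2 hy hy0 en hn (r₁ := r₁) (r₂ := r₂)
    (Fin.ext (by rw [wd_val hf h2, h3]; rfl)) c0 c1 s0 (u := u)
    (fun k => by rcases h1 with rfl | rfl; exacts [k, k.reverse])
    (Fin.ext (by rw [wd_val hf (by rcases h1 with rfl | rfl; exacts [h2, h2']), ← h4]; rfl)) s1 ha hb
  exact hfin M (chk_sound hf hM (fun k hk a b => by simpa [mvs] using hun M k hk a b) (fun P l h => by simp at h) h5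
    (by simpa using ⟨k1, k2⟩) (ov_mvs k3))

end Cfsg.Agent.GenE
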